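import Mathlib

/-!
# Splitting finite algebras by finite free covers
-/

set_option autoImplicit false
set_option linter.style.haveILetI false

universe u

open Polynomial TensorProduct

namespace Groth.Agent.FinSplit

theorem comap_comp_surjective {R S T : Type u} [CommRing R] [CommRing S] [CommRing T] [Algebra R S] [Algebra S T]
    [Algebra R T] [IsScalarTower R S T] (h₁ : Function.Surjective (PrimeSpectrum.comap (algebraMap R S)))
    (h₂ : Function.Surjective (PrimeSpectrum.comap (algebraMap S T))) :
    Function.Surjective (PrimeSpectrum.comap (algebraMap R T)) := by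
  rw [IsScalarTower.algebraMap_eq R S T, PrimeSpectrum.comap_comp]
  exact h₁.comp h₂

/-- A monic polynomial becomes a product of linear factors after a finite free extension. -/
theorem exists_prod_X_sub_C (n : ℕ) : ∀ (R : Type u) [CommRing R] (f : R[X]), f.Monic → f.natDegree = n →
    ∃ (R' : Type u) (_ : CommRing R') (_ : Algebra R R'), Module.Finite R R' ∧ Module.Free R R' ∧
      Function.Surjective (PrimeSpectrum.comap (algebraMap R R')) ∧
      ∃ r : Fin n → R', f.map (algebraMap R R') = ∏ i, (X - C (r i)) := by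
  induction n with
  | zero =>
    intro R _ f hf hn
    exact ⟨R, inferInstance, inferInstance, inferInstance, inferInstance, fun p => ⟨p, PrimeSpectrum.ext (by simp)⟩,
      fun i => i.elim0, by rw [hf.natDegree_eq_zero.1 hn]; simp⟩
  | succ n ih =>
    intro R _ f hf hn
    haveI : Nontrivial R := by
      by_contra h
      haveI := not_nontrivial_iff_subsingleton.1 h
      rw [Subsingleton.elim f 0, natDegree_zero] at hn
      omega
    let pb := AdjoinRoot.powerBasis' hf
    haveI : Module.Free R (AdjoinRoot f) := Module.Free.of_basis pb.basis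
    haveI : Module.Finite R (AdjoinRoot f) := Module.Finite.of_basis pb.basis
    haveI : Nontrivial (AdjoinRoot f) := nontrivial_of_ne _ _
      (pb.basis.ne_zero ⟨0, by rw [show pb.dim = f.natDegree from AdjoinRoot.powerBasis'_dim hf]; omega⟩)
    obtain ⟨g, hg⟩ := dvd_iff_isRoot.2 (AdjoinRoot.isRoot_root f)
    have hgm : g.Monic := (monic_X_sub_C (AdjoinRoot.root f)).of_mul_monic_left (hg ▸ hf.map _)
    have hgn : g.natDegree = n := by
      have := congrArg natDegree hg
      rw [hf.natDegree_map, (monic_X_sub_C _).natDegree_mul hgm, natDegree_X_sub_C, hn] at this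
      omega
    obtain ⟨R', i₁, i₂, hfin, hfree, hs, r, hr⟩ := ih (AdjoinRoot f) g hgm hgn
    letI : Algebra R R' := ((algebraMap (AdjoinRoot f) R').comp (algebraMap R (AdjoinRoot f))).toAlgebra
    haveI : IsScalarTower R (AdjoinRoot f) R' := IsScalarTower.of_algebraMap_eq fun _ => rfl
    refine ⟨R', i₁, inferInstance, Module.Finite.trans (AdjoinRoot f) R', Module.Free.trans (S := AdjoinRoot f),
      comap_comp_surjective (S := AdjoinRoot f) PrimeSpectrum.comap_surjective_of_faithfullyFlat hs,
      Fin.cons (algebraMap (AdjoinRoot f) R' (AdjoinRoot.root f)) r, ?_⟩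
    rw [IsScalarTower.algebraMap_eq R (AdjoinRoot f) R', ← Polynomial.map_map]
    show (f.map (AdjoinRoot.of f)).map _ = _
    rw [hg, Polynomial.map_mul, hr, Polynomial.map_sub, map_X, map_C, Fin.prod_univ_succ]
    simp

/-- The universal algebra with `m` roots of a monic polynomial. -/
theorem exists_universal_roots {R : Type u} [CommRing R] (F : R[X]) (hF : F.Monic) (m : ℕ) :
    ∃ (C : Type u) (_ : CommRing C) (_ : Algebra R C), Module.Finite R C ∧ Module.Free R C ∧
      ∃ y : Fin m → C, Algebra.adjoin R (Set.range y) = ⊤ ∧ (∀ i, aeval (y i) F = 0) ∧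
        ∀ (T : Type u) [CommRing T] [Algebra R T] (b : Fin m → T), (∀ i, aeval (b i) F = 0) →
          ∃ φ : C →ₐ[R] T, ∀ i, φ (y i) = b i := by
  induction m with
  | zero =>
    exact ⟨R, inferInstance, inferInstance, inferInstance, inferInstance, fun i => i.elim0, Subsingleton.elim _ _,
      fun i => i.elim0, fun T _ _ _ _ => ⟨Algebra.ofId R T, fun i => i.elim0⟩⟩
  | succ m ih =>
    obtain ⟨C, _, _, hfin, hfree, y, hy, hyr, hu⟩ := ih
    have hFm := hF.map (algebraMap R C)
    let pb := AdjoinRoot.powerBasis' hFm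
    haveI : Module.Free C (AdjoinRoot (F.map (algebraMap R C))) := Module.Free.of_basis pb.basis
    haveI : Module.Finite C (AdjoinRoot (F.map (algebraMap R C))) := Module.Finite.of_basis pb.basis
    refine ⟨AdjoinRoot (F.map (algebraMap R C)), inferInstance, inferInstance, Module.Finite.trans C _,
      Module.Free.trans (S := C), Fin.cons (AdjoinRoot.root _) (fun i => algebraMap C _ (y i)), ?_, ?_, ?_⟩
    · rw [eq_top_iff]
      rintro z -
      set S := Algebra.adjoin R (Set.range (Fin.cons (AdjoinRoot.root (F.map (algebraMap R C)))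
        (fun i => algebraMap C (AdjoinRoot (F.map (algebraMap R C))) (y i)) : Fin (m + 1) → _)) with hS
      have hC : ∀ c, algebraMap C (AdjoinRoot (F.map (algebraMap R C))) c ∈ S := by
        intro c
        have hc : c ∈ Algebra.adjoin R (Set.range y) := hy ▸ trivial
        have : IsScalarTower.toAlgHom R C (AdjoinRoot (F.map (algebraMap R C))) c ∈
            (Algebra.adjoin R (Set.range y)).map (IsScalarTower.toAlgHom R C (AdjoinRoot (F.map (algebraMap R C)))) :=
          Subalgebra.mem_map.2 ⟨c, hc, rfl⟩
        rw [AlgHom.map_adjoin] at this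
        refine Algebra.adjoin_mono ?_ this
        rintro _ ⟨_, ⟨i, rfl⟩, rfl⟩
        exact ⟨i.succ, by simp⟩
      induction z using AdjoinRoot.induction_on with
      | ih p =>
        induction p using Polynomial.induction_on' with
        | add p q hp hq => rw [map_add]; exact add_mem hp hq
        | monomial k c =>
          rw [← C_mul_X_pow_eq_monomial, map_mul, map_pow, AdjoinRoot.mk_C, AdjoinRoot.mk_X]
          exact mul_mem (hC c) (pow_mem (Algebra.subset_adjoin (Set.mem_range.2 ⟨0, by simp⟩)) k)
    · refine Fin.cases ?_ fun i => ?_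
      · rw [Fin.cons_zero, ← aeval_map_algebraMap C, AdjoinRoot.aeval_eq, AdjoinRoot.mk_self]
      · rw [Fin.cons_succ, aeval_algebraMap_apply, hyr, map_zero]
    · intro T _ _ b hb
      obtain ⟨φ, hφ⟩ := hu T (fun i => b i.succ) (fun i => hb i.succ)
      letI : Algebra C T := φ.toRingHom.toAlgebra
      haveI : IsScalarTower R C T := IsScalarTower.of_algebraMap_eq fun x => (φ.commutes x).symm
      refine ⟨(AdjoinRoot.liftAlgHom _ (Algebra.ofId C T) (b 0) ?_).restrictScalars R, Fin.cases ?_ fun i => ?_⟩
      · show eval₂ (algebraMap C T) (b 0) (F.map (algebraMap R C)) = 0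
        rw [eval₂_map, ← IsScalarTower.algebraMap_eq, ← aeval_def]
        exact hb 0
      · simp
      · simp only [Fin.cons_succ, AlgHom.restrictScalars_apply, AlgHom.commutes]
        exact hφ i

/-- A finite algebra is, after a finite free cover, a quotient of a finite free algebra covered by sections. -/
theorem exists_sections_cover (A B : Type u) [CommRing A] [CommRing B] [Algebra A B] [Module.Finite A B] :
    ∃ (A' : Type u) (_ : CommRing A') (_ : Algebra A A'), Module.Finite A A' ∧ Module.Free A A' ∧
      Function.Surjective (PrimeSpectrum.comap (algebraMap A A')) ∧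
      ∃ (C : Type u) (_ : CommRing C) (_ : Algebra A' C), Module.Finite A' C ∧ Module.Free A' C ∧
        ∃ π : C →ₐ[A'] A' ⊗[A] B, Function.Surjective π ∧
          ∃ (M : ℕ) (σ : Fin M → (C →ₐ[A'] A')), ∀ Q : PrimeSpectrum C,
            ∃ j, RingHom.ker (σ j) ≤ Q.asIdeal := by
  classical
  obtain ⟨m, x, hx⟩ : ∃ (m : ℕ) (x : Fin m → B), Submodule.span A (Set.range x) = ⊤ :=
    Module.Finite.exists_fin (R := A) (M := B)
  choose f hfm hf using fun i => Algebra.IsIntegral.isIntegral (R := A) (x i)
  let F : A[X] := ∏ i, f i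
  have hF : F.Monic := monic_prod_of_monic _ _ fun i _ => hfm i
  have hFx : ∀ i, aeval (x i) F = 0 := fun i => by
    rw [map_prod]
    exact Finset.prod_eq_zero (Finset.mem_univ i) (hf i)
  obtain ⟨A', _, _, hfin, hfree, hs, r, hr⟩ := exists_prod_X_sub_C _ A F hF rfl
  obtain ⟨C, _, _, hCfin, hCfree, y, hy, hyr, hu⟩ := exists_universal_roots (F.map (algebraMap A A')) (hF.map _) m
  obtain ⟨π, hπ⟩ := hu (A' ⊗[A] B) (fun i => (1 : A') ⊗ₜ[A] x i) (fun i => by
    rw [aeval_map_algebraMap]
    show aeval (Algebra.TensorProduct.includeRight (R := A) (A := A') (x i)) F = 0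
    rw [aeval_algHom_apply, hFx, map_zero])
  refine ⟨A', inferInstance, inferInstance, hfin, hfree, hs, C, inferInstance, inferInstance, hCfin, hCfree, π, ?_,
    Fintype.card (Fin m → Fin F.natDegree), ?_⟩
  · intro z
    induction z with
    | zero => exact ⟨0, map_zero π⟩
    | add a b ha hb =>
      obtain ⟨a, rfl⟩ := ha
      obtain ⟨b, rfl⟩ := hb
      exact ⟨a + b, map_add π a b⟩
    | tmul a b =>
      have hb : b ∈ Submodule.span A (Set.range x) := hx ▸ trivial
      obtain ⟨c, rfl⟩ := (Submodule.mem_span_range_iff_exists_fun A).1 hb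
      refine ⟨∑ i, (a * algebraMap A A' (c i)) • y i, ?_⟩
      rw [map_sum, TensorProduct.tmul_sum]
      refine Finset.sum_congr rfl fun i _ => ?_
      rw [map_smul, hπ, TensorProduct.smul_tmul', smul_eq_mul, mul_one, mul_comm, ← Algebra.smul_def,
        TensorProduct.smul_tmul]
  have hroot : ∀ τ : Fin m → Fin F.natDegree, ∀ i, aeval (r (τ i)) (F.map (algebraMap A A')) = 0 := fun τ i => by
    rw [hr, map_prod]
    exact Finset.prod_eq_zero (Finset.mem_univ (τ i)) (by simp)
  choose s hs' using fun τ => hu A' (fun i => r (τ i)) (hroot τ)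
  let e := (Fintype.equivFin (Fin m → Fin F.natDegree)).symm
  refine ⟨fun j => s (e j), fun Q => ?_⟩
  have hex : ∀ i, ∃ k, y i - algebraMap A' C (r k) ∈ Q.asIdeal := fun i => by
    have h0 : ∏ k, (y i - algebraMap A' C (r k)) ∈ Q.asIdeal := by
      have := hyr i
      rw [hr, map_prod] at this
      simp only [map_sub, aeval_X, aeval_C] at this
      rw [this]
      exact zero_mem _
    obtain ⟨k, -, hk⟩ := (Ideal.IsPrime.prod_mem_iff).1 h0
    exact ⟨k, hk⟩
  choose τ hτ using hex
  refine ⟨e.symm τ, fun z hz => ?_⟩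
  have hz' : s τ z = 0 := by simpa using hz
  have heq : Ideal.Quotient.mkₐ A' Q.asIdeal =
      ((Ideal.Quotient.mkₐ A' Q.asIdeal).comp (Algebra.ofId A' C)).comp (s τ) := by
    refine AlgHom.ext_of_adjoin_eq_top hy ?_
    rintro _ ⟨i, rfl⟩
    simp only [AlgHom.comp_apply, Ideal.Quotient.mkₐ_eq_mk, hs']
    exact Ideal.Quotient.eq.2 (hτ i)
  refine Ideal.Quotient.eq_zero_iff_mem.1 ?_
  rw [← Ideal.Quotient.mkₐ_eq_mk A', heq, AlgHom.comp_apply, hz', map_zero]

end Groth.Agent.FinSplit
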