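import Groth.Agent.AICCover.Scheme
import Groth.Agent.UnivOpenFin5.FiniteExtend

/-!
# Finite surjective covers splitting given monic polynomials
-/

set_option autoImplicit false
set_option linter.style.haveILetI false
set_option linter.unusedSectionVars false
set_option backward.isDefEq.respectTransparency false
set_option backward.isDefEq.respectTransparency.types false
set_option maxHeartbeats 1000000

universe u

open CategoryTheory CategoryTheory.Limits AlgebraicGeometry TopologicalSpace Opposite Polynomial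

noncomputable section

namespace Groth.Agent.FinSplit

open Groth.Agent

/-- Monic polynomials split in the integral closure in a product of algebraically closed fields. -/
theorem exists_roots {R : Type u} [CommRing R] {ι : Type u} (K : ι → Type u) [∀ i, Field (K i)]
    [∀ i, IsAlgClosed (K i)] (σ : R →+* ∀ i, K i) (p : R[X]) (hp : p.Monic) :
    letI := σ.toAlgebra
    ∃ t : Fin p.natDegree → integralClosure R (∀ i, K i),
      p.map (algebraMap R (integralClosure R (∀ i, K i))) = ∏ l, (X - C (t l)) := by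
  letI := σ.toAlgebra
  have h : ∀ i, ∃ r : Fin p.natDegree → K i, p.map ((Pi.evalRingHom K i).comp σ) = ∏ l, (X - C (r l)) := fun i => by
    set q := p.map ((Pi.evalRingHom K i).comp σ)
    have hq : q.Monic := hp.map _
    have hs : q.Splits := IsAlgClosed.splits q
    have hlen : q.roots.toList.length = p.natDegree := by
      rw [Multiset.length_toList, ← hs.natDegree_eq_card_roots, hp.natDegree_map]
    refine ⟨fun l => q.roots.toList.get (Fin.cast hlen.symm l), ?_⟩
    refine Eq.trans ?_ (Fintype.prod_equiv (finCongr hlen.symm) (fun l => X - C (q.roots.toList.get (Fin.cast hlen.symm l))) (fun l => X - C (q.roots.toList.get l)) fun l => rfl).symm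
    conv_lhs => rw [hs.eq_prod_roots_of_monic hq]
    rw [← List.prod_ofFn]
    conv_lhs => rw [← Multiset.coe_toList q.roots, Multiset.map_coe, Multiset.prod_coe]
    congr 1
    rw [show (fun l => X - C (q.roots.toList.get l)) = (fun a => X - C a) ∘ q.roots.toList.get from rfl,
      ← List.map_ofFn, List.ofFn_get]
  choose r hr using h
  have hpi : p.map σ = ∏ l, (X - C (fun i => r i l)) := by
    refine Polynomial.ext fun e => funext fun i => ?_
    have := congrArg (fun q : (K i)[X] => q.coeff e) (hr i)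
    simp only [coeff_map] at this
    rw [coeff_map]
    refine this.trans ?_
    have e' := congrArg (fun q : (K i)[X] => q.coeff e)
      (Polynomial.map_prod (Pi.evalRingHom K i) (fun l => X - C (fun i => r i l)) Finset.univ)
    simp only [coeff_map, Polynomial.map_sub, map_X, map_C, Pi.evalRingHom_apply] at e'
    exact e'.symm
  let t : Fin p.natDegree → integralClosure R (∀ i, K i) := fun l => ⟨fun i => r i l, p, hp, by
    rw [eval₂_eq_eval_map]
    show (p.map σ).eval _ = 0
    rw [hpi, eval_prod]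
    exact Finset.prod_eq_zero (Finset.mem_univ l) (by simp)⟩
  refine ⟨t, Polynomial.map_injective (integralClosure R (∀ i, K i)).val.toRingHom Subtype.val_injective ?_⟩
  rw [Polynomial.map_map, Polynomial.map_prod]
  simp only [Polynomial.map_sub, map_X, map_C]
  exact hpi

/-- Sections on the preimage of an affine open receive the sections of a chart containing it. -/
theorem exists_hom_of_chart {Y' Y : Scheme.{u}} (g : Y' ⟶ Y) {U : Y.Opens} (hU : IsAffineOpen U)
    {B : CommRingCat.{u}} (σ : Γ(Y, U) ⟶ B) (c : Spec B ⟶ Y') [IsOpenImmersion c]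
    (hc : c ≫ g = Spec.map σ ≫ hU.fromSpec) (hle : g ⁻¹ᵁ U ≤ c.opensRange) :
    ∃ χ : B ⟶ Γ(Y', g ⁻¹ᵁ U), σ ≫ χ = g.app U := by
  let W := g ⁻¹ᵁ U
  let l := IsOpenImmersion.lift c W.ι (by rw [Scheme.Opens.range_ι]; exact hle)
  haveI : IsAffine U.toScheme := hU
  have h : (g ∣_ U) ≫ hU.isoSpec.hom = l ≫ Spec.map σ := by
    rw [← cancel_mono hU.fromSpec, Category.assoc, Category.assoc, ← hc, IsOpenImmersion.lift_fac_assoc,
      IsAffineOpen.fromSpec, Iso.hom_inv_id_assoc, morphismRestrict_ι]
  refine ⟨(Scheme.ΓSpecIso B).inv ≫ l.appTop ≫ W.topIso.hom, ?_⟩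
  have h' := congrArg Scheme.Hom.appTop h
  rw [Scheme.Hom.comp_appTop, Scheme.Hom.comp_appTop, hU.isoSpec_hom_appTop] at h'
  rw [← Category.assoc, Scheme.ΓSpecIso_inv_naturality, Category.assoc, ← Category.assoc _ l.appTop, ← h']
  simp only [Category.assoc, Iso.inv_hom_id_assoc]
  have e : (g ∣_ U).appTop ≫ W.topIso.hom = U.topIso.hom ≫ g.app U := by
    rw [morphismRestrict_appTop, Scheme.Opens.topIso_hom, Scheme.Opens.topIso_hom, Category.assoc,
      g.naturality (eqToHom _).op, ← Y'.presheaf.map_comp]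
    try rfl
  rw [e, Iso.inv_hom_id_assoc]

theorem splits_app_of_chart {Y' Y : Scheme.{u}} (g : Y' ⟶ Y) {U : Y.Opens} (hU : IsAffineOpen U)
    {B : CommRingCat.{u}} (σ : Γ(Y, U) ⟶ B) (c : Spec B ⟶ Y') [IsOpenImmersion c]
    (hc : c ≫ g = Spec.map σ ≫ hU.fromSpec) (hle : g ⁻¹ᵁ U ≤ c.opensRange) {p : Γ(Y, U)[X]}
    (hp : (p.map σ.hom).Splits) : (p.map (g.app U).hom).Splits := by
  obtain ⟨χ, hχ⟩ := exists_hom_of_chart g hU σ c hc hle
  rw [← hχ, CommRingCat.hom_comp, ← Polynomial.map_map]
  exact hp.map χ.hom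

/-- Finitely many monic polynomials over affine opens of a Noetherian scheme split over a finite cover. -/
theorem exists_finite_splitting {Y : Scheme.{u}} [IsNoetherian Y] {ι : Type} [Finite ι] (U : ι → Y.Opens)
    (hU : ∀ a, IsAffineOpen (U a)) (P : ∀ a, Finset Γ(Y, U a)[X]) :
    ∃ (Y' : Scheme.{u}) (g : Y' ⟶ Y), IsFinite g ∧ Surjective g ∧
      ∀ a, ∀ p ∈ P a, p.Monic → (p.map (g.app (U a)).hom).Splits := by
  classical
  let π := AICCover.proj Y
  haveI : IsIntegralHom π := AICCover.isIntegralHom_proj Y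
  let B : RelSpec.QCAlg Y := RelSpec.QCAlg.directImage π
  have hG := QCoh.isQCoh_toModule B
  have hroots : ∀ a, ∀ p : P a, ∃ t : Fin p.1.natDegree → B.presheaf.obj (op (U a)),
      p.1.Monic → p.1.map (B.str.app (op (U a))).hom = ∏ l, (X - C (t l)) := fun a p => by
    by_cases hp : p.1.Monic
    swap
    · exact ⟨fun _ => 0, fun h => absurd h hp⟩
    letI := (AICCover.evalPts Y (U a)).toAlgebra
    obtain ⟨t, ht⟩ := exists_roots (fun x : U a => AlgebraicClosure (Y.residueField x.1))
      (AICCover.evalPts Y (U a)) p.1 hp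
    obtain ⟨χ, hχ⟩ := exists_hom_of_chart π (hU a) (CommRingCat.ofHom (algebraMap Γ(Y, U a) (AICCover.closurePts Y (U a))))
      (AICCover.chart Y (hU a)) (AICCover.chart_proj Y (hU a)) (AICCover.proj_preimage Y (hU a)).le
    refine ⟨fun l => χ.hom (t l), fun _ => ?_⟩
    have := congrArg (Polynomial.map χ.hom) ht
    rw [Polynomial.map_map, Polynomial.map_prod] at this
    simp only [Polynomial.map_sub, map_X, map_C] at this
    exact (congrArg (fun f : Γ(Y, U a) →+* _ => p.1.map f) (congrArg CommRingCat.Hom.hom hχ).symm).trans this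
  choose t ht using hroots
  let T : ∀ a, Set Γ(B.toModule, U a) := fun a =>
    show Set (B.presheaf.obj (op (U a))) from ⋃ p : P a, Set.range (t a p)
  have hex : ∀ a, ∃ N : QCoh.SubMod B.toModule, QCoh.FTOn N ⊤ ∧ T a ⊆ N.mem (U a) := fun a =>
    QCoh.exists_ftOn_contains hG (hU a) (QCoh.extStep_qcqs (hU a).isCompact) (T a)
      (Set.finite_iUnion fun p => Set.finite_range _)
  choose N hN hTN using hex
  let M := QCoh.sumSub N
  have hM : QCoh.FTOn M ⊤ := QCoh.ftOn_sumSub N hN
  let d := Scheme.AffineZariskiSite.relativeGluingData (UnivOpenFin5.genStr_coequifibered B M hM)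
  haveI : (d.functor ⋙ Scheme.forget).IsLocallyDirected :=
    Scheme.Cover.RelativeGluingData.instIsLocallyDirectedI₀CompFunctorForgetOfIsThin ..
  have hchart : ∀ V : Y.AffineZariskiSite, colimit.ι d.functor V ≫ d.toBase =
      Spec.map ((UnivOpenFin5.genStr B M).app (op V)) ≫ V.2.fromSpec := fun V => by
    rw [d.ι_toBase]
    show (Spec.map ((UnivOpenFin5.genStr B M).app (op V)) ≫ V.2.isoSpec.inv) ≫ V.1.ι = _
    rw [Category.assoc]
    rfl
  have hrange : ∀ V : Y.AffineZariskiSite, d.toBase ⁻¹ᵁ V.1 ≤ (colimit.ι d.functor V).opensRange := fun V z hz => by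
    have h2 := d.isPullback_natTrans_ι_toBase V
    obtain ⟨v, hv⟩ : d.toBase z ∈ Set.range ((Scheme.AffineZariskiSite.directedCover Y).f V) := by
      show d.toBase z ∈ Set.range V.1.ι
      rw [Scheme.Opens.range_ι]; exact hz
    obtain ⟨w, -, hw⟩ := Scheme.Pullback.exists_preimage_pullback v z hv
    exact ⟨h2.isoPullback.inv w, by rw [← Scheme.Hom.comp_apply, h2.isoPullback_inv_snd]; exact hw⟩
  refine ⟨d.glued, d.toBase, ?_, ⟨fun y => ?_⟩, fun a p hp hmon => ?_⟩
  · choose Vx hVx hxVx _ Tx hTx using fun x : Y => hM x trivial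
    refine (IsZariskiLocalAtTarget.iff_of_iSup_eq_top (P := @IsFinite) Vx
      (eq_top_iff.2 fun x _ => Opens.mem_iSup.2 ⟨x, hxVx x⟩)).2 fun x => ?_
    let V : Y.AffineZariskiSite := ⟨Vx x, hVx x⟩
    have h2 := d.isPullback_natTrans_ι_toBase V
    refine (MorphismProperty.arrow_mk_iso_iff @IsFinite
      (Arrow.isoMk ((isPullback_morphismRestrict d.toBase (Vx x)).flip.isoIsPullback _ _ h2.flip) (Iso.refl _)
        ((IsPullback.isoIsPullback_hom_snd _ _ _ _).trans (Category.comp_id _).symm))).2 ?_
    have hfin' : ((UnivOpenFin5.genStr B M).app (op V)).hom.Finite := by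
      letI := (B.str.app (op (Vx x))).hom.toAlgebra
      let A : Subalgebra Γ(Y, Vx x) (B.presheaf.obj (op (Vx x))) :=
        { (QCoh.genRing B M (Vx x)).toSubsemiring with algebraMap_mem' := fun b => QCoh.str_mem_genRing B M b }
      have hA : A = Algebra.adjoin Γ(Y, Vx x) (show Set (B.presheaf.obj (op (Vx x))) from Tx x) := by
        refine le_antisymm (fun b (hb : b ∈ QCoh.genRing B M (Vx x)) => ?_) (Algebra.adjoin_le fun b hb =>
          Subring.subset_closure (Or.inr ((hTx x).mem b hb)))
        induction hb using Subring.closure_induction with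
        | mem y hy =>
          rcases hy with ⟨b, rfl⟩ | hy
          · exact Subalgebra.algebraMap_mem _ b
          · have h3 := (hTx x).mem_span hG (hVx x) (show (show Γ(B.toModule, Vx x) from y) ∈ M.mem (Vx x) from hy)
            exact Algebra.span_le_adjoin _ _ h3
        | zero => exact zero_mem _
        | one => exact one_mem _
        | add b c _ _ hb hc => exact add_mem hb hc
        | neg b _ hb => exact neg_mem hb
        | mul b c _ _ hb hc => exact mul_mem hb hc
      have hint : ∀ b : B.presheaf.obj (op (Vx x)), IsIntegral Γ(Y, Vx x) b := fun b =>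
        (IsIntegralHom.isIntegral_app (f := π) (Vx x) (hVx x)) b
      haveI : Module.Finite Γ(Y, Vx x) A := by
        rw [hA]
        exact Algebra.finite_adjoin_of_finite_of_isIntegral (hTx x).fin fun b _ => hint b
      exact RingHom.finite_algebraMap.2 ‹Module.Finite Γ(Y, Vx x) A›
    haveI : IsFinite (Spec.map ((UnivOpenFin5.genStr B M).app (op V))) := (IsFinite.SpecMap_iff _).2 hfin'
    show IsFinite (Spec.map ((UnivOpenFin5.genStr B M).app (op V)) ≫
      (Scheme.AffineZariskiSite.restrictIsoSpec Y).inv.app V)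
    infer_instance
  · obtain ⟨z, hz⟩ := (AICCover.surjective_proj Y).surj y
    obtain ⟨V, hV, hyV, -⟩ := exists_isAffineOpen_mem_and_subset (x := y) (U := (⊤ : Y.Opens)) trivial
    let V₀ : Y.AffineZariskiSite := ⟨V, hV⟩
    have hW : IsAffineOpen (π ⁻¹ᵁ V) := hV.preimage π
    obtain ⟨w, rfl⟩ : z ∈ Set.range hW.fromSpec := by
      rw [hW.range_fromSpec]; show π z ∈ V; rw [hz]; exact hyV
    let q : (UnivOpenFin5.genFunctor B M).obj (op V₀) ⟶ Γ(AICCover.cover Y, π ⁻¹ᵁ V) :=
      CommRingCat.ofHom (QCoh.genRing B M V).subtype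
    refine ⟨colimit.ι d.functor V₀ (Spec.map q w), ?_⟩
    have e : Spec.map q ≫ colimit.ι d.functor V₀ ≫ d.toBase = hW.fromSpec ≫ π := by
      rw [hchart V₀, ← Spec.map_comp_assoc, show (UnivOpenFin5.genStr B M).app (op V₀) ≫ q = π.app V from rfl,
        Scheme.Hom.app_eq_appLE]
      exact IsAffineOpen.SpecMap_appLE_fromSpec π hV hW le_rfl
    refine (congr($e w)).trans ?_
    exact hz
  · let V₀ : Y.AffineZariskiSite := ⟨U a, hU a⟩
    refine splits_app_of_chart d.toBase (hU a) ((UnivOpenFin5.genStr B M).app (op V₀)) (colimit.ι d.functor V₀)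
      (hchart V₀) (hrange V₀) ?_
    have hmem : ∀ l, t a ⟨p, hp⟩ l ∈ QCoh.genRing B M (U a) := fun l =>
      Subring.subset_closure (Or.inr (QCoh.le_sumSub N a _ (hTN a (Set.mem_iUnion.2 ⟨⟨p, hp⟩, l, rfl⟩))))
    have e : p.map ((UnivOpenFin5.genStr B M).app (op V₀)).hom =
        ∏ l, (X - C (⟨t a ⟨p, hp⟩ l, hmem l⟩ : QCoh.genRing B M (U a))) := by
      refine Polynomial.map_injective (QCoh.genRing B M (U a)).subtype Subtype.val_injective ?_
      rw [Polynomial.map_map, Polynomial.map_prod]
      simp only [Polynomial.map_sub, map_X, map_C]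
      exact ht a ⟨p, hp⟩ hmon
    rw [e]
    exact Splits.prod fun l _ => Splits.X_sub_C _

end Groth.Agent.FinSplit

end
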