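import Groth.Agent.FinSplit.Cover
import Mathlib.AlgebraicGeometry.ZariskisMainTheorem

/-!
# Integral schemes over a splitting cover have no nontrivial finite extensions inside a given finite scheme
-/

set_option autoImplicit false
set_option linter.style.haveILetI false
set_option linter.unusedSectionVars false
set_option backward.isDefEq.respectTransparency false
set_option backward.isDefEq.respectTransparency.types false
set_option maxHeartbeats 1000000

universe u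

open CategoryTheory CategoryTheory.Limits AlgebraicGeometry TopologicalSpace Opposite Polynomial

noncomputable section

namespace Groth.Agent.FinSplit

/-- A root of a split monic polynomial in a domain comes from one of the roots. -/
theorem mem_range_of_splits {R A D : Type u} [CommRing R] [CommRing A] [CommRing D] [IsDomain D]
    {p : R[X]} (hp : p.Monic) {φ : R →+* A} (hs : (p.map φ).Splits) (ψ : A →+* D) {y : D}
    (hy : p.eval₂ (ψ.comp φ) y = 0) : y ∈ Set.range ψ := by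
  obtain ⟨m, hm⟩ := splits_iff_exists_multiset'.1 hs
  rw [(hp.map φ).leadingCoeff, C_1, one_mul] at hm
  rw [← eval₂_map, hm, eval₂_multiset_prod, Multiset.map_map, Multiset.prod_eq_zero_iff, Multiset.mem_map] at hy
  obtain ⟨a, -, ha⟩ := hy
  simp only [Function.comp_apply, eval₂_add, eval₂_X, eval₂_C] at ha
  exact ⟨-a, by rw [map_neg]; linear_combination -ha⟩

/-- Two morphisms from an affine open agreeing on the functions of an affine target open agree. -/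
theorem ι_comp_eq {T F : Scheme.{u}} (f₁ f₂ : T ⟶ F) {O : F.Opens} (hO : IsAffineOpen O) {V : T.Opens}
    (hV : IsAffineOpen V) (e₁ : V ≤ f₁ ⁻¹ᵁ O) (e₂ : V ≤ f₂ ⁻¹ᵁ O) (h : f₁.appLE O V e₁ = f₂.appLE O V e₂) :
    V.ι ≫ f₁ = V.ι ≫ f₂ := by
  haveI : IsAffine V.toScheme := hV
  have hι : V.ι = hV.isoSpec.hom ≫ hV.fromSpec := by
    rw [IsAffineOpen.fromSpec, Iso.hom_inv_id_assoc]
  rw [hι, Category.assoc, Category.assoc, ← IsAffineOpen.SpecMap_appLE_fromSpec f₁ hO hV e₁,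
    ← IsAffineOpen.SpecMap_appLE_fromSpec f₂ hO hV e₂, h]

theorem appLE_congr_hom {T F : Scheme.{u}} {f g : T ⟶ F} (h : f = g) (O : F.Opens) (V : T.Opens) (e : V ≤ f ⁻¹ᵁ O) :
    f.appLE O V e = g.appLE O V (h ▸ e) := by subst h; rfl

/-- The uniqueness of the lift. -/
theorem isIso_of_splits {Y Y' F' G W : Scheme.{u}} (h : F' ⟶ Y) [IsFinite h] (g : Y' ⟶ Y)
    {κ : Type} (U : κ → Y.Opens) (hU : ∀ a, IsAffineOpen (U a)) (hcov : ∀ y, ∃ a, y ∈ U a)
    (S : ∀ a, Finset Γ(F', h ⁻¹ᵁ U a))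
    (hS : ∀ a, letI := (h.app (U a)).hom.toAlgebra; Submodule.span Γ(Y, U a) (S a : Set Γ(F', h ⁻¹ᵁ U a)) = ⊤)
    (p : ∀ a, Γ(F', h ⁻¹ᵁ U a) → Γ(Y, U a)[X])
    (hp : ∀ a, ∀ q ∈ S a, (p a q).Monic ∧ (p a q).eval₂ (h.app (U a)).hom q = 0 ∧ ((p a q).map (g.app (U a)).hom).Splits)
    (γ : G ⟶ Y') [IsReduced G] [IsIntegral W] (w : W ⟶ G) [IsFinite w] [Surjective w] (w₂ : W ⟶ F')
    (hcomm : w ≫ γ ≫ g = w₂ ≫ h)
    (hmono : ∀ {T : Scheme.{u}} (a b : T ⟶ W), a ≫ w = b ≫ w → a ≫ w₂ = b ≫ w₂ → a = b) : IsIso w := by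
  haveI : Mono w := ⟨fun {T} a b hab => by
    refine hmono a b hab ?_
    have hpt : ∀ z : T, ∃ (c : κ) (V : T.Opens), IsAffineOpen V ∧ z ∈ V ∧ V ≤ (a ≫ w ≫ γ ≫ g) ⁻¹ᵁ U c := fun z => by
      obtain ⟨c, hc⟩ := hcov ((a ≫ w ≫ γ ≫ g) z)
      obtain ⟨V, hV, hzV, hVle⟩ := exists_isAffineOpen_mem_and_subset (show z ∈ (a ≫ w ≫ γ ≫ g) ⁻¹ᵁ U c from hc)
      exact ⟨c, V, hV, hzV, hVle⟩
    choose c V hV hzV hVle using hpt
    refine Scheme.Cover.hom_ext (T.openCoverOfIsOpenCover V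
      (eq_top_iff.2 fun z _ => Opens.mem_iSup.2 ⟨z, hzV z⟩)) _ _ fun z => ?_
    show (V z).ι ≫ a ≫ w₂ = (V z).ι ≫ b ≫ w₂
    have hbw : b ≫ w ≫ γ ≫ g = a ≫ w ≫ γ ≫ g := by
      rw [← Category.assoc, ← hab, Category.assoc]
    let O := h ⁻¹ᵁ U (c z)
    let Ω := (w ≫ γ ≫ g) ⁻¹ᵁ U (c z)
    have eW : Ω ≤ w₂ ⁻¹ᵁ O := (congrArg (fun f : W ⟶ Y => f ⁻¹ᵁ U (c z)) hcomm).le
    have ea : V z ≤ a ⁻¹ᵁ Ω := hVle z
    have eb : V z ≤ b ⁻¹ᵁ Ω := fun y hy => by
      show (b ≫ w ≫ γ ≫ g) y ∈ U (c z)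
      rw [hbw]; exact hVle z hy
    refine ι_comp_eq _ _ ((hU _).preimage h) (hV z) (ea.trans (Scheme.Hom.preimage_mono a eW))
      (eb.trans (Scheme.Hom.preimage_mono b eW)) ?_
    rw [← Scheme.Hom.appLE_comp_appLE a w₂ O Ω (V z) eW ea, ← Scheme.Hom.appLE_comp_appLE b w₂ O Ω (V z) eW eb]
    by_cases hne : (Ω : Set W).Nonempty
    swap
    · have hbot : Ω = ⊥ := Opens.ext (Set.not_nonempty_iff_eq_empty.1 hne)
      haveI : Subsingleton Γ(W, Ω) :=
        CommRingCat.subsingleton_of_isTerminal (hbot ▸ W.sheaf.isTerminalOfEmpty)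
      ext x
      exact (congrArg (a.appLE Ω (V z) ea).hom (Subsingleton.elim _ 0)).trans
        ((map_zero _).trans ((map_zero (b.appLE Ω (V z) eb).hom).symm.trans
          (congrArg (b.appLE Ω (V z) eb).hom (Subsingleton.elim 0 _))))
    haveI : Nonempty Ω.toScheme := ⟨⟨hne.some, hne.some_mem⟩⟩
    let ψ : Γ(Y', g ⁻¹ᵁ U (c z)) →+* Γ(W, Ω) := ((w ≫ γ).appLE (g ⁻¹ᵁ U (c z)) Ω le_rfl).hom
    have hψab : ∀ x, (a.appLE Ω (V z) ea).hom (ψ x) = (b.appLE Ω (V z) eb).hom (ψ x) := fun x => by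
      have e : (w ≫ γ).appLE (g ⁻¹ᵁ U (c z)) Ω le_rfl ≫ a.appLE Ω (V z) ea =
          (w ≫ γ).appLE (g ⁻¹ᵁ U (c z)) Ω le_rfl ≫ b.appLE Ω (V z) eb := by
        rw [Scheme.Hom.appLE_comp_appLE, Scheme.Hom.appLE_comp_appLE]
        exact appLE_congr_hom (by rw [← Category.assoc, hab, Category.assoc]) _ _ _
      exact ConcreteCategory.congr_hom e x
    have hRψ : ψ.comp (g.app (U (c z))).hom = (w₂.appLE O Ω eW).hom.comp (h.app (U (c z))).hom := by
      have e : g.app (U (c z)) ≫ (w ≫ γ).appLE (g ⁻¹ᵁ U (c z)) Ω le_rfl = h.app (U (c z)) ≫ w₂.appLE O Ω eW := by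
        rw [Scheme.Hom.app_eq_appLE, Scheme.Hom.app_eq_appLE, Scheme.Hom.appLE_comp_appLE, Scheme.Hom.appLE_comp_appLE]
        exact appLE_congr_hom (by rw [Category.assoc, hcomm]) _ _ _
      exact congrArg CommRingCat.Hom.hom e
    ext x
    letI := (h.app (U (c z))).hom.toAlgebra
    show (a.appLE Ω (V z) ea).hom ((w₂.appLE O Ω eW).hom x) = (b.appLE Ω (V z) eb).hom ((w₂.appLE O Ω eW).hom x)
    have hx : x ∈ Submodule.span Γ(Y, U (c z)) (S (c z) : Set Γ(F', h ⁻¹ᵁ U (c z))) := by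
      rw [hS]; trivial
    induction hx using Submodule.span_induction with
    | mem q hq =>
      obtain ⟨hmon, heval, hs⟩ := hp (c z) q hq
      obtain ⟨t, ht⟩ := mem_range_of_splits hmon hs ψ (y := (w₂.appLE O Ω eW).hom q) (by
        rw [hRψ, ← Polynomial.hom_eval₂, heval, map_zero])
      rw [← ht]
      exact hψab t
    | zero => simp only [map_zero]
    | add x y _ _ hx hy => simp only [map_add, hx, hy]
    | smul r x _ hx =>
      rw [Algebra.smul_def, map_mul, map_mul, map_mul, hx]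
      congr 1
      show _ = (b.appLE Ω (V z) eb).hom ((w₂.appLE O Ω eW).hom ((h.app (U (c z))).hom r))
      have := RingHom.congr_fun hRψ r
      rw [RingHom.comp_apply, RingHom.comp_apply] at this
      rw [← this]
      show (a.appLE Ω (V z) ea).hom ((w₂.appLE O Ω eW).hom ((h.app (U (c z))).hom r)) = _
      rw [← this]
      exact hψab _⟩
  haveI : IsClosedImmersion w := (IsClosedImmersion.iff_isProper_and_mono w).2 ⟨inferInstance, inferInstance⟩
  exact isIso_of_isClosedImmersion_of_surjective w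

end Groth.Agent.FinSplit

end
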